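import Groth.Prelude.Def_W4c3degenlocivbPfaff
import Mathlib.RingTheory.MvPolynomial.Homogeneous
import Mathlib.LinearAlgebra.Matrix.NonsingularInverse
import Mathlib.Tactic

set_option autoImplicit false

universe u v

open MvPolynomial

namespace Groth.Agent.SubPf

theorem map_pf {R : Type u} {S : Type v} [CommRing R] [CommRing S] (f : R →+* S) :
    ∀ (n : ℕ) (T : Matrix (Fin n) (Fin n) R),
      f (W4c3degenlocivb.pf n T) = W4c3degenlocivb.pf n (T.map f)
  | 0, _ => by simp [W4c3degenlocivb.pf]
  | 1, _ => by simp [W4c3degenlocivb.pf]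
  | n + 2, T => by
    simp only [W4c3degenlocivb.pf, map_sum, map_mul, map_pow, map_neg, map_one, Matrix.map_apply]
    refine Finset.sum_congr rfl fun j _ => ?_
    rw [map_pf f n]
    rfl

theorem isHomogeneous_pf {R : Type u} [CommRing R] {σ : Type v} :
    ∀ (m : ℕ) (T : Matrix (Fin (2 * m)) (Fin (2 * m)) (MvPolynomial σ R)),
      (∀ a b, (T a b).IsHomogeneous 1) → (W4c3degenlocivb.pf (2 * m) T).IsHomogeneous m
  | 0, _, _ => by
    show (1 : MvPolynomial σ R).IsHomogeneous 0
    exact isHomogeneous_one _ _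
  | m + 1, T, hT => by
    show (∑ j : Fin (2 * m + 1), (-1) ^ ((j : ℕ) + 1) * T (Fin.last (2 * m + 1)) (Fin.castSucc j) *
        W4c3degenlocivb.pf (2 * m) (T.submatrix (Fin.castSucc ∘ j.succAbove)
          (Fin.castSucc ∘ j.succAbove))).IsHomogeneous (m + 1)
    refine IsHomogeneous.sum _ _ _ fun j _ => ?_
    have h0 : ((-1 : MvPolynomial σ R) ^ ((j : ℕ) + 1)).IsHomogeneous 0 := by
      have := (isHomogeneous_C (σ := σ) ((-1 : R) ^ ((j : ℕ) + 1)))
      simpa using this
    have h1 := (h0.mul (hT (Fin.last (2 * m + 1)) (Fin.castSucc j))).mul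
      (isHomogeneous_pf m (T.submatrix (Fin.castSucc ∘ j.succAbove) (Fin.castSucc ∘ j.succAbove))
        fun a b => hT _ _)
    simpa [add_comm] using h1

theorem pf_of_band {R : Type u} [CommRing R] :
    ∀ (m : ℕ) (T : Matrix (Fin (2 * m)) (Fin (2 * m)) R),
      (∀ (a b : Fin (2 * m)), (b : ℕ) + 2 ≤ (a : ℕ) → T a b = 0) →
      W4c3degenlocivb.pf (2 * m) T =
        ∏ s : Fin m, -(T ⟨2 * s + 1, by omega⟩ ⟨2 * s, by omega⟩)
  | 0, _, _ => by simp [W4c3degenlocivb.pf]
  | m + 1, T, hT => by
    show (∑ j : Fin (2 * m + 1), (-1) ^ ((j : ℕ) + 1) * T (Fin.last (2 * m + 1)) (Fin.castSucc j) *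
        W4c3degenlocivb.pf (2 * m) (T.submatrix (Fin.castSucc ∘ j.succAbove)
          (Fin.castSucc ∘ j.succAbove))) = _
    rw [Finset.sum_eq_single (Fin.last (2 * m))]
    rotate_left
    · intro j _ hj
      have hlt : (j : ℕ) < 2 * m := by
        rcases lt_or_eq_of_le (Nat.lt_succ_iff.mp j.2) with h | h
        · exact h
        · exact absurd (Fin.ext h) hj
      rw [hT _ _ (by simp only [Fin.val_last, Fin.val_castSucc]; omega)]
      simp
    · intro h; exact absurd (Finset.mem_univ _) h
    have ih := pf_of_band m (T.submatrix (Fin.castSucc ∘ (Fin.last (2 * m)).succAbove)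
      (Fin.castSucc ∘ (Fin.last (2 * m)).succAbove)) (fun a b hab => hT _ _ (by
        simpa [Fin.succAbove_last] using hab))
    refine (congrArg _ ih).trans ?_
    rw [Fin.prod_univ_castSucc]
    have hs : ((-1 : R) ^ ((Fin.last (2 * m) : ℕ) + 1)) = -1 := by
      rw [Fin.val_last]; exact Odd.neg_one_pow ⟨m, rfl⟩
    rw [hs]
    simp only [Matrix.submatrix_apply, Function.comp_apply, Fin.succAbove_last]
    rw [show (-1 : R) * T (Fin.last (2 * m + 1)) (Fin.last (2 * m)).castSucc =
      -(T ⟨2 * (Fin.last m : ℕ) + 1, by rw [Fin.val_last]; omega⟩ ⟨2 * (Fin.last m : ℕ), by rw [Fin.val_last]; omega⟩) by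
        rw [neg_one_mul]; rfl]
    rw [mul_comm]
    rfl

variable {k : Type u} [CommRing k] (r : ℕ)

/-- the matrix of linear forms attached to a coefficient array -/
noncomputable def linMat (c : Fin (2 * r + 1) → Fin (2 * r + 1) → Fin 2 → k) :
    Matrix (Fin (2 * r + 1)) (Fin (2 * r + 1)) (MvPolynomial (Fin 2) k) :=
  Matrix.of fun a b => ∑ l : Fin 2, C (c a b l) * X l

/-- the `i`-th principal sub-Pfaffian -/
noncomputable def sub (c : Fin (2 * r + 1) → Fin (2 * r + 1) → Fin 2 → k)
    (i : Fin (2 * r + 1)) : MvPolynomial (Fin 2) k :=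
  W4c3degenlocivb.pf (2 * r) ((linMat r c).submatrix i.succAbove i.succAbove)

theorem isHomogeneous_sub (c : Fin (2 * r + 1) → Fin (2 * r + 1) → Fin 2 → k)
    (i : Fin (2 * r + 1)) : (sub r c i).IsHomogeneous r := by
  refine isHomogeneous_pf r _ fun a b => ?_
  simp only [Matrix.submatrix_apply, linMat, Matrix.of_apply]
  refine IsHomogeneous.sum _ _ _ fun l _ => ?_
  exact MvPolynomial.isHomogeneous_C_mul_X _ l

theorem map_sub {k' : Type v} [CommRing k'] (f : k →+* k')
    (c : Fin (2 * r + 1) → Fin (2 * r + 1) → Fin 2 → k) (i : Fin (2 * r + 1)) :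
    MvPolynomial.map f (sub r c i) = sub r (fun a b l => f (c a b l)) i := by
  rw [sub, map_pf, sub]
  congr 1
  ext a b : 1
  simp [linMat, map_sum, map_C, map_X]

/-- exponent vectors of binary forms of degree `r` -/
noncomputable def expo (q : Fin (r + 1)) : Fin 2 →₀ ℕ :=
  Finsupp.single 0 (q : ℕ) + Finsupp.single 1 (r - q)

/-- the even index `2q` -/
def ev (q : Fin (r + 1)) : Fin (2 * r + 1) := ⟨2 * q, by omega⟩

/-- coefficient matrix of the even sub-Pfaffians in the monomial basis -/
noncomputable def coefMat (c : Fin (2 * r + 1) → Fin (2 * r + 1) → Fin 2 → k) :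
    Matrix (Fin (r + 1)) (Fin (r + 1)) k :=
  Matrix.of fun q q' => coeff (expo r q') (sub r c (ev r q))

/-- the witness array -/
def wit : Fin (2 * r + 1) → Fin (2 * r + 1) → Fin 2 → k := fun a b l =>
  if (b : ℕ) + 1 = (a : ℕ) ∧ (b : ℕ) % 2 = (l : ℕ) then -1
  else if (a : ℕ) + 1 = (b : ℕ) ∧ (a : ℕ) % 2 = (l : ℕ) then 1 else 0

theorem wit_skew (a b : Fin (2 * r + 1)) (l : Fin 2) :
    (wit r b a l : k) = -wit r a b l := by
  unfold wit
  split_ifs <;> first | (exfalso; omega) | (simp; done)

theorem wit_lower (a b : Fin (2 * r + 1)) (l : Fin 2) (h : (b : ℕ) + 1 = (a : ℕ)) :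
    (wit r a b l : k) = if (b : ℕ) % 2 = (l : ℕ) then -1 else 0 := by
  unfold wit
  split_ifs <;> first | rfl | (exfalso; omega)

theorem sub_wit (q : Fin (r + 1)) :
    sub r (wit r (k := k)) (ev r q) = monomial (expo r q) 1 := by
  rw [sub, pf_of_band]
  swap
  · intro (a : Fin (2 * r)) (b : Fin (2 * r)) hab
    simp only [Matrix.submatrix_apply, linMat, Matrix.of_apply]
    refine Finset.sum_eq_zero fun l _ => ?_
    have h1 : ((ev r q).succAbove b : ℕ) + 2 ≤ ((ev r q).succAbove a : ℕ) := by
      simp only [Fin.succAbove, Fin.lt_def, Fin.val_castSucc]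
      split_ifs <;> simp only [Fin.val_castSucc, Fin.val_succ] <;> omega
    rw [show wit r ((ev r q).succAbove a) ((ev r q).succAbove b) l = (0 : k) by
      unfold wit
      split_ifs <;> first | rfl | (exfalso; omega)]
    simp
  have hterm : ∀ s : Fin r, -((linMat r (wit r (k := k))).submatrix (ev r q).succAbove (ev r q).succAbove
      ⟨2 * s + 1, by omega⟩ ⟨2 * s, by omega⟩) = if (s : ℕ) < (q : ℕ) then X 0 else X 1 := by
    intro s
    simp only [Matrix.submatrix_apply, linMat, Matrix.of_apply, Fin.succAbove, Fin.lt_def,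
      Fin.val_castSucc, ev]
    by_cases hsq : (s : ℕ) < (q : ℕ)
    · rw [if_pos hsq, if_pos (by omega), if_pos (by omega), Fin.sum_univ_two,
        wit_lower r _ _ _ (by simp), wit_lower r _ _ _ (by simp)]
      simp
    · rw [if_neg hsq, if_neg (by omega), if_neg (by omega), Fin.sum_univ_two,
        wit_lower r _ _ _ (by simp), wit_lower r _ _ _ (by simp)]
      simp [Nat.add_mod]
  rw [Finset.prod_congr rfl fun s _ => hterm s, Finset.prod_ite, Finset.prod_const, Finset.prod_const]
  have hc : (Finset.univ.filter fun s : Fin r => (s : ℕ) < (q : ℕ)).card = (q : ℕ) := by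
    have := q.2
    rw [← Finset.card_range (q : ℕ)]
    exact (Finset.card_bij (fun s _ => (s : ℕ)) (fun s hs => by simpa using hs)
      (fun a _ b _ h => Fin.ext h)
      (fun b hb => ⟨⟨b, by simp at hb; omega⟩, by simpa using hb, rfl⟩))
  have hc' : (Finset.univ.filter fun s : Fin r => ¬(s : ℕ) < (q : ℕ)).card = r - q := by
    have h := Finset.card_filter_add_card_filter_not (s := (Finset.univ : Finset (Fin r)))
      (fun s : Fin r => (s : ℕ) < (q : ℕ))
    rw [Finset.card_univ, Fintype.card_fin, hc] at h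
    omega
  rw [hc, hc', expo, X_pow_eq_monomial, X_pow_eq_monomial, monomial_mul, one_mul]

theorem coefMat_wit : coefMat r (wit r (k := k)) = 1 := by
  classical
  ext q q'
  simp only [coefMat, Matrix.of_apply, sub_wit, coeff_monomial, Matrix.one_apply]
  by_cases h : q = q'
  · subst h; simp
  · rw [if_neg h, if_neg]
    intro he
    have := congrArg (fun e : Fin 2 →₀ ℕ => e 0) he
    simp [expo] at this
    exact h (Fin.ext this)

/-- the generic determinant -/
noncomputable def genDet (k : Type u) [CommRing k] (r : ℕ) :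
    MvPolynomial (Fin (2 * r + 1) × Fin (2 * r + 1) × Fin 2) k :=
  (coefMat r (fun a b l => (X (a, b, l) : MvPolynomial (Fin (2 * r + 1) × Fin (2 * r + 1) × Fin 2) k))).det

theorem eval_genDet (c : Fin (2 * r + 1) → Fin (2 * r + 1) → Fin 2 → k) :
    eval (fun p => c p.1 p.2.1 p.2.2) (genDet k r) = (coefMat r c).det := by
  rw [genDet, RingHom.map_det]
  congr 1
  ext q q'
  rw [RingHom.mapMatrix_apply, Matrix.map_apply, coefMat, coefMat, Matrix.of_apply, Matrix.of_apply,
    ← coeff_map, map_sub]
  simp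

theorem span_eq {F : Type u} [Field F] (r : ℕ) (c : Fin (2 * r + 1) → Fin (2 * r + 1) → Fin 2 → F)
    (hdet : (coefMat r c).det ≠ 0) :
    Submodule.span F (Set.range (sub r c)) = homogeneousSubmodule (Fin 2) F r := by
  classical
  apply le_antisymm
  · rw [Submodule.span_le]
    rintro _ ⟨i, rfl⟩
    exact isHomogeneous_sub r c i
  · intro p hp
    rw [as_sum p]
    refine Submodule.sum_mem _ fun d hd => ?_
    have hdeg : d 0 + d 1 = r := by
      have := (mem_homogeneousSubmodule _ _).mp hp (mem_support_iff.mp hd)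
      simpa [Finsupp.weight_apply, Finsupp.sum_fintype] using this
    have hq : d = expo r ⟨d 0, by omega⟩ := by
      ext i
      fin_cases i <;> simp [expo] <;> omega
    suffices hm : monomial d (1 : F) ∈ Submodule.span F (Set.range (sub r c)) by
      simpa [smul_monomial] using Submodule.smul_mem _ (coeff d p) hm
    rw [hq]
    generalize (⟨d 0, by omega⟩ : Fin (r + 1)) = q0
    have key : monomial (expo r q0) (1 : F) = ∑ q, (coefMat r c)⁻¹ q0 q • sub r c (ev r q) := by
      have hhom : (∑ q, (coefMat r c)⁻¹ q0 q • sub r c (ev r q)).IsHomogeneous r :=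
        (homogeneousSubmodule (Fin 2) F r).sum_mem fun q _ =>
          Submodule.smul_mem _ _ (isHomogeneous_sub r c _)
      ext e
      by_cases he : e 0 + e 1 = r
      · have heq : e = expo r ⟨e 0, by omega⟩ := by
          ext i
          fin_cases i <;> simp [expo] <;> omega
        rw [heq]
        generalize (⟨e 0, by omega⟩ : Fin (r + 1)) = q1
        have h1 : ((coefMat r c)⁻¹ * coefMat r c) q0 q1 = (1 : Matrix _ _ F) q0 q1 := by
          rw [Matrix.nonsing_inv_mul _ (isUnit_iff_ne_zero.mpr hdet)]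
        simp only [Matrix.mul_apply, coefMat, Matrix.of_apply] at h1
        rw [coeff_sum]
        simp only [coeff_smul, smul_eq_mul]
        rw [show coefMat r c = Matrix.of fun q q' => coeff (expo r q') (sub r c (ev r q)) from rfl, h1,
          coeff_monomial, Matrix.one_apply]
        by_cases h : q0 = q1
        · subst h; simp
        · rw [if_neg h, if_neg]
          intro he'
          have := congrArg (fun e : Fin 2 →₀ ℕ => e 0) he'
          simp [expo] at this
          exact h (Fin.ext this)
      · have hne : Finsupp.weight 1 e ≠ r := by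
          simpa [Finsupp.weight_apply, Finsupp.sum_fintype] using he
        rw [hhom.coeff_eq_zero (d := e)]
        · rw [coeff_monomial, if_neg]
          rintro rfl
          apply he
          simp [expo]; omega
        · rwa [Finsupp.degree_eq_weight_one]
    rw [key]
    exact Submodule.sum_mem _ fun q _ => Submodule.smul_mem _ _ (Submodule.subset_span ⟨_, rfl⟩)

end Groth.Agent.SubPf
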